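import Groth.Agent.Lib.SemiAbExt.Largest
import Groth.Agent.Lib.GrpQ.AffKer
import Groth.Agent.S7983
import Groth.Agent.S3927
import Groth.Agent.S18070

/-!
# Anti-affine commutative groups via their quotients by torus and unipotent parts
-/

set_option autoImplicit false
set_option linter.style.haveILetI false
set_option backward.isDefEq.respectTransparency false
set_option synthInstance.maxHeartbeats 200000
universe u

open CategoryTheory CategoryTheory.Limits MonoidalCategory CartesianMonoidalCategory MonObj GrpObj AlgebraicGeometry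
open Groth.Agent.Lib Groth.Agent.Lib.GrpQ

namespace Groth.Agent.Lib.AntiAffParts

variable {k : Type u} [Field k]

/-- Homomorphisms from an anti-affine group to an affine one are trivial. -/
theorem eq_one_of_antiAffine {G Z : Over (Spec (CommRingCat.of k))} [GrpObj G] [GrpObj Z] [QuasiCompact G.hom]
    (hG : Function.Bijective ((Scheme.ΓSpecIso (CommRingCat.of k)).inv ≫ G.hom.appTop).hom) [IsAffine Z.left]
    (f : G ⟶ Z) (hf : η[G] ≫ f = η[Z]) : f = 1 := by
  haveI : IsSeparated G.hom := GrpSch.isSeparated_of_field G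
  haveI : IsIso G.hom.appTop := by
    haveI : IsIso ((Scheme.ΓSpecIso (CommRingCat.of k)).inv ≫ G.hom.appTop) :=
      (ConcreteCategory.isIso_iff_bijective _).2 hG
    exact IsIso.of_isIso_comp_left (Scheme.ΓSpecIso (CommRingCat.of k)).inv G.hom.appTop
  haveI : IsIso (toUnit G).left.appTop := ‹IsIso G.hom.appTop›
  obtain ⟨c, hc⟩ := Affinization.exists_fac (toUnit G) f
  have hc' : c = η[Z] := by
    rw [← hf, ← hc, ← Category.assoc, toUnit_unique (η[G] ≫ toUnit G) (𝟙 _), Category.id_comp]
  rw [← hc, hc', Hom.one_def]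

/-- If the quotient by the image of `a` is anti-affine, `a` covers every affine quotient. -/
theorem surjective_of_antiAffine_quot {G Q Gu T : Over (Spec (CommRingCat.of k))} [GrpObj G] [GrpObj Q] [GrpObj Gu]
    [GrpObj T] [IsCommMonObj G] [LocallyOfFiniteType G.hom] [QuasiCompact G.hom] [ConnectedSpace G.left]
    [Smooth Q.hom] [IsAffine Q.left] [LocallyOfFiniteType T.hom] [QuasiCompact T.hom]
    (t : T ⟶ G) [IsMonHom t] (q : G ⟶ Gu) [IsMonHom q] [Surjective q.left] [Flat q.left]
    [LocallyOfFiniteType Gu.hom] [QuasiCompact Gu.hom]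
    (hK : AlgGrp.IsKernel t q)
    (hGu : Function.Bijective ((Scheme.ΓSpecIso (CommRingCat.of k)).inv ≫ Gu.hom.appTop).hom)
    (f : G ⟶ Q) [IsMonHom f] [Surjective f.left] [Flat f.left] : Surjective (t ≫ f).left := by
  haveI : LocallyOfFinitePresentation f.left := SemiAbExt.lfp_of_hom f
  haveI : IsCommMonObj Q := CommAlgGrp.isCommMonObj_of_cover f
  haveI : IsAffineHom Q.hom := inferInstance
  haveI : QuasiCompact Q.hom := inferInstance
  haveI : ConnectedSpace Q.left := f.left.surjective.connectedSpace f.left.continuous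
  obtain ⟨C, _, p, i, hp, hi, hpi, hstd, hic⟩ := GrpQ.Image.exists_image (t ≫ f)
  haveI := hp; haveI := hi; haveI := hic
  haveI : LocallyOfFiniteType C.hom := by rw [← Over.w i]; infer_instance
  obtain ⟨Z, _, _, r, hr, hrf, hrs, hrl, hrK, hZs, hZq, hZc⟩ := SemiAbExt.exists_quot i
  haveI := hr; haveI := hrf; haveI := hrs; haveI := hrl; haveI := hZs; haveI := hZq
  haveI : IsAffine Z.left := (Groth.Agent.S7983.result k Q Z r).1 inferInstance
  haveI : LocallyOfFinitePresentation q.left := SemiAbExt.lfp_of_hom q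
  have ht1 : t ≫ f ≫ r = 1 := by
    rw [← Category.assoc t, ← hpi, Category.assoc, GrpQ.kernel_comp hrK, MonObj.comp_one]
  obtain ⟨g, hg⟩ := H87.CentralExt.exists_desc q (f ≫ r) fun W a b hab => by
    have : (a * b⁻¹) ≫ q = 1 := by rw [MonObj.mul_comp, GrpObj.inv_comp, hab, mul_inv_cancel]
    obtain ⟨n, hn⟩ := (GrpQ.mem_kernel hK _).2 this
    have h1 : (a * b⁻¹) ≫ f ≫ r = 1 := by rw [← hn, Category.assoc, ht1, MonObj.comp_one]
    rwa [MonObj.mul_comp, GrpObj.inv_comp, mul_inv_eq_one] at h1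
  have hg1 : η[Gu] ≫ g = η[Z] := by
    rw [← IsMonHom.one_hom (f := q), Category.assoc, hg, ← Category.assoc, IsMonHom.one_hom, IsMonHom.one_hom]
  have hr1 : f ≫ r = 1 := by rw [← hg, eq_one_of_antiAffine hGu g hg1, MonObj.comp_one]
  have hr2 : r = 1 := by
    haveI := H87.CentralExt.epi_of_cover f
    rw [← cancel_epi f, hr1, MonObj.comp_one]
  obtain ⟨s, hs⟩ := (GrpQ.mem_kernel hrK (𝟙 Q)).2 (by rw [Category.id_comp, hr2])
  haveI : Surjective i.left := SemiAbExt.surjective_of_lift i (𝟙 Q) s hs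
  haveI : QuasiCompact p.left := GrpQ.quasiCompact_left p
  have hclosed : IsClosed (Set.range p.left) := GenSub.isClosed_range_of_map p μ[T]
    (IsMonHom.mul_hom p) η[T] GrpObj.inv (by
      have h : (𝟙 T)⁻¹ ≫ p = p⁻¹ := by rw [GrpObj.inv_comp (𝟙 T) p, Category.id_comp]
      simpa [Hom.inv_def] using h)
  haveI : Surjective p.left := ⟨by
    haveI := hstd
    rw [← Set.range_eq_univ, ← hclosed.closure_eq]
    exact p.left.denseRange.closure_range⟩
  rw [← hpi, Over.comp_left]
  infer_instance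

/-- A group without subtori has no torus quotient. -/
theorem isIso_one_of_torus_quotient [IsAlgClosed k] {U Q : Over (Spec (CommRingCat.of k))} [GrpObj U] [GrpObj Q]
    [IsAffine U.left] [Smooth U.hom] [ConnectedSpace U.left] (hU : Red.HasNoSubtorus k U)
    [IsAffine Q.left] [Smooth Q.hom] [ConnectedSpace Q.left] (hQ : Red.IsTorus Q)
    (b : U ⟶ Q) [IsMonHom b] [Surjective b.left] : IsIso η[Q] := by
  obtain ⟨D, _, hD⟩ := SemiAbExt.exists_torus.{u} (Spec (CommRingCat.of k))
  haveI : Smooth D.hom := Tori.Basic.smooth_of_isTorus hD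
  haveI : IsAffineHom D.hom := Tori.Basic.isAffineHom_of_isTorus hD
  haveI : LocallyOfFiniteType (𝟙_ (Over (Spec (CommRingCat.of k)))).hom := inferInstanceAs (LocallyOfFiniteType (𝟙 _))
  haveI : Smooth (𝟙_ (Over (Spec (CommRingCat.of k)))).hom := inferInstanceAs (Smooth (𝟙 _))
  haveI : QuasiCompact (𝟙_ (Over (Spec (CommRingCat.of k)))).hom := inferInstanceAs (QuasiCompact (𝟙 _))
  haveI : IsReduced (𝟙_ (Over (Spec (CommRingCat.of k)))).left := inferInstanceAs (IsReduced (Spec (CommRingCat.of k)))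
  haveI : IsMonHom (toUnit D) := Groth.Agent.H87.HomDS.isMonHom_of_points _ fun X a b => toUnit_unique _ _
  haveI : Surjective (toUnit D).left :=
    ⟨fun x => ⟨η[D].left x, Subsingleton.elim (α := Spec (CommRingCat.of k)) _ _⟩⟩
  haveI : Flat (toUnit D).left := GrpQ.flat_of_surjective_of_smooth _
  have h1 : Red.IsTorus (𝟙_ (Over (Spec (CommRingCat.of k)))) := SemiAbIsog.Basic.isTorus_quotient hD (toUnit D)
  have hη : ∀ (G : Over (Spec (CommRingCat.of k))) [GrpObj G] [IsSeparated G.hom],
      IsMonHom η[G] ∧ IsClosedImmersion η[G].left ∧ Mono η[G] := fun G _ _ => by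
    haveI : IsClosedImmersion (η[G].left ≫ G.hom) := by
      rw [Over.w η[G]]
      exact inferInstanceAs (IsClosedImmersion (𝟙 _))
    haveI : IsClosedImmersion η[G].left := IsClosedImmersion.of_comp η[G].left G.hom
    exact ⟨Groth.Agent.H87.HomDS.isMonHom_of_points _ fun X a b => by
      rw [toUnit_unique (a * b) (toUnit X), toUnit_unique a (toUnit X), toUnit_unique b (toUnit X),
        ← Hom.one_def, _root_.one_mul], inferInstance, Over.mono_of_mono_left _⟩
  obtain ⟨a1, a2, a3⟩ := hη U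
  have hmax : AGF.IsMaxTorus η[U] := ⟨a1, a3, h1, fun T' _ j _ _ f hT' hf => by
    haveI : IsIso T'.hom := hU T' j hT'
    haveI : IsIso (toUnit T') := by
      haveI : IsIso ((Over.forget _).map (toUnit T')) := inferInstanceAs (IsIso T'.hom)
      exact isIso_of_reflects_iso _ (Over.forget _)
    haveI : IsIso (f ≫ toUnit T') := by rw [toUnit_unique (f ≫ toUnit T') (𝟙 _)]; infer_instance
    exact IsIso.of_isIso_comp_right f (toUnit T')⟩
  obtain ⟨b1, b2, b3⟩ := hη Q
  haveI := b1
  haveI : Surjective (Over.Hom.left (𝟙 (𝟙_ (Over (Spec (CommRingCat.of k)))) : 𝟙_ (Over (Spec (CommRingCat.of k))) ⟶ 𝟙_ (Over (Spec (CommRingCat.of k))))) := by rw [Over.id_left]; infer_instance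
  have hQmax := Groth.Agent.S3927.result k U Q b _ η[U] hmax _ η[Q] b2 (𝟙 _)
    (by rw [Category.id_comp, IsMonHom.one_hom])
  exact hQmax.2.2.2 Q (𝟙 Q) η[Q] hQ (Category.comp_id _)

end Groth.Agent.Lib.AntiAffParts
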