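import Groth.Agent.Lib.AntiAffParts.Basic
import Groth.Agent.S4139
import Groth.Agent.H1.Classical.FieldDescent

/-!
# Groups without subtori over a field have no torus quotient
-/

set_option autoImplicit false
set_option linter.style.haveILetI false
set_option backward.isDefEq.respectTransparency false
set_option synthInstance.maxHeartbeats 200000
universe u

open CategoryTheory CategoryTheory.Limits MonoidalCategory CartesianMonoidalCategory MonObj GrpObj AlgebraicGeometry
open Groth.Agent.Lib Groth.Agent.Lib.GrpQ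

namespace Groth.Agent.Lib.AntiAffParts

theorem eq_one_of_trivial {S : Scheme.{u}} {T : Over S} [GrpObj T] (h : IsIso T.hom) {X : Over S}
    (x : X ⟶ T) : x = 1 := by
  haveI : IsIso (toUnit T) := by
    haveI : IsIso ((Over.forget _).map (toUnit T)) := h
    exact isIso_of_reflects_iso _ (Over.forget _)
  rw [← cancel_mono (toUnit T)]
  exact toUnit_unique _ _

theorem hasNoSubtorus_closure {k : Type u} [Field k] (U : Over (Spec (CommRingCat.of k))) [GrpObj U]
    [IsCommMonObj U] [IsAffine U.left] [Smooth U.hom] (hU : Red.HasNoSubtorus k U) :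
    ∃ (K : Type u) (_ : Field K) (_ : IsAlgClosed K) (_ : Algebra k K) (_ : Algebra.IsAlgebraic k K),
      Red.HasNoSubtorus K (Red.bc (GrpSch.extBase k K) U) := by
  haveI : IsAffineHom U.hom := inferInstance
  have hr : SGA3x.RedRankLocallyConstant U := fun s => by
    obtain ⟨r, hr⟩ := ImgMT.RedRank.exists_isRk U (Red.geomPt s)
    refine ⟨⊤, trivial, r, fun t _ => ?_⟩
    obtain rfl : t = s := Subsingleton.elim (α := Spec (CommRingCat.of k)) _ _
    exact (ImgMT.RedRank.hasRedRank_iff U _ _).2 ⟨r, rfl, hr⟩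
  obtain ⟨T, gT, i, hi, -⟩ := Groth.Agent.S4139.result _ U hr
  haveI := hi.1
  haveI := hi.2.1
  have hT : IsIso T.hom := hU T i hi.2.2.1
  obtain ⟨K, _, _, _, halg, hmax, -⟩ := H1.Classical.FieldDescent.exists_closure k
  refine ⟨K, inferInstance, inferInstance, inferInstance, halg, fun T' _ j _ _ hT' => ?_⟩
  have hTK : IsIso (Red.bc (GrpSch.extBase k K) T).hom :=
    GrpSch.bc_hom_of (P := MorphismProperty.isomorphisms Scheme) _ T hT
  have h1 : (Over.pullback (GrpSch.extBase k K)).map i =
      (1 : Red.bc (GrpSch.extBase k K) T ⟶ Red.bc (GrpSch.extBase k K) U) := by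
    rw [← Category.id_comp ((Over.pullback (GrpSch.extBase k K)).map i),
      eq_one_of_trivial hTK (𝟙 (Red.bc (GrpSch.extBase k K) T)),
      MonObj.one_comp]
  haveI : IsIso (1 : Red.bc (GrpSch.extBase k K) T ⟶ T') :=
    (hmax hi).2.2.2 T' j 1 hT' (by rw [MonObj.one_comp, h1])
  show IsIso T'.hom
  have e := Over.w (1 : Red.bc (GrpSch.extBase k K) T ⟶ T')
  haveI : IsIso (1 : Red.bc (GrpSch.extBase k K) T ⟶ T').left :=
    ((Over.forget _).mapIso (asIso (1 : Red.bc (GrpSch.extBase k K) T ⟶ T'))).isIso_hom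
  haveI : IsIso ((1 : Red.bc (GrpSch.extBase k K) T ⟶ T').left ≫ T'.hom) := by rw [e]; exact hTK
  exact IsIso.of_isIso_comp_left (1 : Red.bc (GrpSch.extBase k K) T ⟶ T').left T'.hom

theorem isIso_hom_of_torus_quotient {k : Type u} [Field k] {U Q : Over (Spec (CommRingCat.of k))} [GrpObj U]
    [GrpObj Q] [IsCommMonObj U] [IsAffine U.left] [Smooth U.hom] [ConnectedSpace U.left]
    (hU : Red.HasNoSubtorus k U) [IsAffine Q.left] [Smooth Q.hom] [ConnectedSpace Q.left] (hQ : Red.IsTorus Q)
    (b : U ⟶ Q) [IsMonHom b] [Surjective b.left] : IsIso Q.hom := by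
  obtain ⟨K, _, _, _, _, hK⟩ := hasNoSubtorus_closure U hU
  let F := Over.pullback (GrpSch.extBase k K)
  obtain ⟨h1, h2, h3⟩ := H1.Classical.FieldDescent.bc_props (K := K) U
  obtain ⟨q1, q2, q3⟩ := H1.Classical.FieldDescent.bc_props (K := K) Q
  haveI := h1; haveI := h2; haveI := h3; haveI := q1; haveI := q2; haveI := q3
  haveI : Surjective (F.map b).left := GrpSch.bc_map_left_of (P := @Surjective) _ b ‹_›
  haveI := isIso_one_of_torus_quotient hK (Tori.Basic.isTorus_bc hQ _) (F.map b)
  have h : IsIso (Red.bc (GrpSch.extBase k K) Q).hom := by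
    have e := Over.w η[Red.bc (GrpSch.extBase k K) Q]
    haveI : IsIso η[Red.bc (GrpSch.extBase k K) Q].left :=
      ((Over.forget _).mapIso (asIso η[Red.bc (GrpSch.extBase k K) Q])).isIso_hom
    haveI : IsIso (η[Red.bc (GrpSch.extBase k K) Q].left ≫ (Red.bc (GrpSch.extBase k K) Q).hom) := by
      rw [e]; exact inferInstanceAs (IsIso (𝟙 _))
    exact IsIso.of_isIso_comp_left η[Red.bc (GrpSch.extBase k K) Q].left _
  exact GrpSch.of_bc_hom k K (P := MorphismProperty.isomorphisms Scheme) Q h

end Groth.Agent.Lib.AntiAffParts
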